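import Groth.Agent.Lib.GrSerre13.Basic

/-! # Eventual generation of the sections of the twists -/

set_option autoImplicit false
set_option linter.style.haveILetI false
universe u

open AlgebraicGeometry TopologicalSpace Opposite

noncomputable section

namespace Groth.Agent.GrSerre13

open Groth.Agent.GrMod11 Groth.Agent.GrTw11
open Groth.Agent.Mult6 (comp comp_mem comp_of_mem)

variable {A σ : Type u} [CommRing A] [SetLike σ A] [AddSubgroupClass σ A] (𝒜 : ℕ → σ) [GradedRing 𝒜]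
  {M τ : Type u} [AddCommGroup M] [Module A M] [SetLike τ M] [AddSubgroupClass τ M] (ℳ : ℕ → τ)
  [SetLike.GradedSMul 𝒜 ℳ] [DirectSum.Decomposition ℳ]

theorem exists_closure_step (hgen : (HomogeneousIdeal.irrelevant 𝒜).toIdeal = Ideal.span (𝒜 1 : Set A)) {j : ℕ}
    {c : A} (hc : c ∈ 𝒜 (j + 1)) :
    c ∈ AddSubmonoid.closure {y : A | ∃ x ∈ 𝒜 1, ∃ b ∈ 𝒜 j, y = x * b} := by
  classical
  have h := mem_irrelevant 𝒜 (Nat.succ_pos j) hc
  rw [hgen] at h
  obtain ⟨f, hf, hsum⟩ := Submodule.mem_span_set.1 h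
  rw [← DirectSum.decompose_of_mem_same 𝒜 hc, ← GradedRing.proj_apply, ← hsum, Finsupp.sum, map_sum]
  refine AddSubmonoid.sum_mem _ fun x hx => AddSubmonoid.subset_closure ⟨x, hf hx, _,
    SetLike.coe_mem (DirectSum.decompose 𝒜 (f x) j), ?_⟩
  rw [smul_eq_mul, GradedRing.proj_apply, DirectSum.coe_decompose_mul_of_right_mem 𝒜 (j + 1) (hf hx),
    if_pos (Nat.le_add_left 1 j), Nat.add_sub_cancel, mul_comm]

theorem exists_generated [IsNoetherianRing A]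
    (hgen : (HomogeneousIdeal.irrelevant 𝒜).toIdeal = Ideal.span (𝒜 1 : Set A)) {k : ℕ}
    (hTF : (Submodule.span A (⋃ i ∈ Set.Ici k, (ℳ i : Set M))).FG) :
    ∃ D, ∀ n, D ≤ n → ∀ e, ∀ m ∈ ℳ (n + e),
      m ∈ AddSubmonoid.closure {y : M | ∃ a ∈ 𝒜 e, ∃ m₀ ∈ ℳ n, y = a • m₀} := by
  classical
  obtain ⟨T, hT, hT'⟩ := (Submodule.fg_span_iff_fg_span_finset_subset _).1 hTF
  choose D hD using fun t : (T : Set M) => Set.mem_iUnion₂.1 (hT t.2)
  choose hk hDt using hD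
  refine ⟨max k (Finset.univ.sup D + 1), fun n hn e => ?_⟩
  induction e with
  | zero =>
    exact fun m hm => AddSubmonoid.subset_closure ⟨1, SetLike.one_mem_graded 𝒜, m, hm, (one_smul A m).symm⟩
  | succ e ih =>
    intro m hm
    have hmT : m ∈ Submodule.span A (T : Set M) :=
      hT' ▸ Submodule.subset_span (Set.mem_iUnion₂.2 ⟨n + (e + 1),
        Set.mem_Ici.2 ((le_max_left k _).trans (hn.trans (Nat.le_add_right _ _))), hm⟩)
    rw [← Subtype.range_coe (s := (T : Set M))] at hmT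
    obtain ⟨r, hr⟩ := (Submodule.mem_span_range_iff_exists_fun A).1 hmT
    have hm' : m = comp ℳ (n + (e + 1)) m := by rw [comp_of_mem ℳ hm, if_pos rfl]
    rw [hm', ← hr, map_sum]
    refine AddSubmonoid.sum_mem _ fun t _ => ?_
    rw [← DirectSum.sum_support_decompose 𝒜 (r t), Finset.sum_smul, map_sum]
    refine AddSubmonoid.sum_mem _ fun v _ => ?_
    rw [comp_of_mem ℳ (smul_mem_graded 𝒜 (SetLike.coe_mem (DirectSum.decompose 𝒜 (r t) v)) (hDt t))]
    split_ifs with hv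
    swap
    · exact zero_mem _
    have hDn : D t < n := lt_of_lt_of_le (Nat.lt_succ_of_le (Finset.le_sup (Finset.mem_univ t)))
      ((le_max_right k _).trans hn)
    obtain ⟨j, hj⟩ : ∃ j, v = j + 1 := ⟨v - 1, by omega⟩
    subst hj
    have hcl := exists_closure_step 𝒜 hgen (SetLike.coe_mem (DirectSum.decompose 𝒜 (r t) (j + 1)))
    generalize (DirectSum.decompose 𝒜 (r t) (j + 1) : A) = c at hcl
    induction hcl using AddSubmonoid.closure_induction with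
    | mem c hc =>
      obtain ⟨x, hx, b, hb, rfl⟩ := hc
      rw [mul_smul]
      have hbt : b • t.1 ∈ ℳ (n + e) := by
        convert smul_mem_graded 𝒜 hb (hDt t) using 2
        omega
      have h2 := ih _ hbt
      generalize b • t.1 = y at h2
      induction h2 using AddSubmonoid.closure_induction with
      | mem y hy =>
        obtain ⟨a, ha, m₀, hm₀, rfl⟩ := hy
        refine AddSubmonoid.subset_closure ⟨x * a, ?_, m₀, hm₀, (mul_smul x a m₀).symm⟩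
        convert SetLike.mul_mem_graded hx ha using 2
        omega
      | zero => rw [smul_zero]; exact zero_mem _
      | add p q _ _ hp hq => rw [smul_add]; exact add_mem hp hq
    | zero => rw [zero_smul]; exact zero_mem _
    | add p q _ _ hp hq => rw [add_smul]; exact add_mem hp hq

omit [DirectSum.Decomposition ℳ] in
theorem exists_eq_of_surjective {n : ℕ} (h : Function.Surjective (GrMod.alpha 𝒜 ℳ n)) {z : ℤ} (hz : z = (n : ℤ))
    (s : Sec (ℳ := ℳ) z (⊤ : (Proj 𝒜).Opens)) :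
    ∃ m ∈ ℳ n, ∀ x, val s x trivial = mkx 𝒜 x m 1 (GrMod.one_nin x) := by
  subst hz
  obtain ⟨m, hm⟩ := h s
  exact ⟨m, m.2, fun x => (congrArg (fun t : Sec (ℳ := ℳ) (n : ℤ) (⊤ : (Proj 𝒜).Opens) => val t x trivial) hm).symm⟩

omit [DirectSum.Decomposition ℳ] in
theorem exists_eq_of_surjective' {n e : ℕ} (h : Function.Surjective (GrMod.alpha 𝒜 ℳ (n + e)))
    (s : GrMod.sect 𝒜 ℳ ((n : ℤ) + (e : ℤ)) (op (⊤ : Opens (ProjectiveSpectrum.top 𝒜)))) :
    ∃ m ∈ ℳ (n + e), ∀ x, (s.1 ⟨x, trivial⟩ : GrMod.LocMod 𝒜 (M := M) x) = mkx 𝒜 x m 1 (GrMod.one_nin x) :=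
  exists_eq_of_surjective 𝒜 ℳ (n := n + e) h (z := (n : ℤ) + (e : ℤ)) (Nat.cast_add n e).symm s

/-- Products of a ring element and a section of high degree. -/
theorem exists_mem_iSup {n e : ℕ} {y : M}
    (hy : y ∈ AddSubmonoid.closure {y : M | ∃ a ∈ 𝒜 e, ∃ m₀ ∈ ℳ n, y = a • m₀}) :
    ∃ t ∈ (⨆ a : 𝒜 e, (GrMod.smulSect 𝒜 ℳ a (n : ℤ) (op (⊤ : Opens (ProjectiveSpectrum.top 𝒜)))).range),
      ∀ x, (t.1 ⟨x, trivial⟩ : GrMod.LocMod 𝒜 (M := M) x) = mkx 𝒜 x y 1 (GrMod.one_nin x) := by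
  induction hy using AddSubmonoid.closure_induction with
  | mem y hy =>
    obtain ⟨a, ha, m₀, hm₀, rfl⟩ := hy
    refine ⟨_, AddSubgroup.mem_iSup_of_mem ⟨a, ha⟩ ⟨GrMod.globalOf 𝒜 ℳ ⟨m₀, hm₀⟩, rfl⟩, fun x => ?_⟩
    rw [GrMod.smulSect_apply_coe]
    show (Localization.mk a 1 : GrTwist.Loc 𝒜 x) • LocalizedModule.mk m₀ _ = _
    rw [LocalizedModule.mk_smul_mk, one_mul]
    rfl
  | zero => exact ⟨0, zero_mem _, fun x => (LocalizedModule.zero_mk _).symm⟩
  | add p q _ _ hp hq =>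
    obtain ⟨t, ht, ht'⟩ := hp
    obtain ⟨t₂, ht₂, ht₂'⟩ := hq
    refine ⟨t + t₂, add_mem ht ht₂, fun x => ?_⟩
    show (t.1 ⟨x, trivial⟩ : GrMod.LocMod 𝒜 (M := M) x) + t₂.1 ⟨x, trivial⟩ = _
    rw [ht', ht₂']
    exact ((LocalizedModule.mkLinearMap _ M).map_add p q).symm

set_option maxHeartbeats 1600000 in
theorem iSup_range_smulSect_eq_top [IsNoetherianRing A]
    (hgen : (HomogeneousIdeal.irrelevant 𝒜).toIdeal = Ideal.span (𝒜 1 : Set A)) {k : ℕ}
    (hTF : (Submodule.span A (⋃ i ∈ Set.Ici k, (ℳ i : Set M))).FG) :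
    ∃ k' : ℕ, ∀ e : ℕ,
      (⨆ a : 𝒜 e, (GrMod.smulSect 𝒜 ℳ a (k' : ℤ) (op (⊤ : Opens (ProjectiveSpectrum.top 𝒜)))).range) = ⊤ := by
  obtain ⟨N, hN⟩ := bijective_alpha 𝒜 ℳ hTF
  obtain ⟨D, hD⟩ := exists_generated 𝒜 ℳ hgen hTF
  obtain ⟨K, hKN, hKD⟩ : ∃ K, N ≤ K ∧ D ≤ K := ⟨max N D, le_max_left N D, le_max_right N D⟩
  refine ⟨K, fun e => eq_top_iff.2 fun s _ => ?_⟩
  obtain ⟨m, hm, hms⟩ :=
    exists_eq_of_surjective' 𝒜 ℳ (n := K) (e := e) (hN (K + e) (hKN.trans (Nat.le_add_right K e))).2 s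
  obtain ⟨t, ht, ht'⟩ := exists_mem_iSup 𝒜 ℳ (n := K) (e := e) (hD K hKD e m hm)
  have hst : t = s := Subtype.ext (funext fun x => Subtype.ext ((ht' x.1).trans (hms x.1).symm))
  exact hst ▸ ht

end Groth.Agent.GrSerre13
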